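import Cfsg.Agent.H700.PsuRow.Tor
import Cfsg.Agent.H403.LinTwo

/-!
# Semisimple elements of `SU_n(q)`, `n = 2 m + l + 1`, with blocks of size `2 m`, `l`, `1` (helper44, for S3442)
-/

set_option autoImplicit false
set_option linter.unusedSectionVars false
set_option linter.unusedSimpArgs false

namespace Cfsg.Agent.H44.Cov

open Polynomial Function Cfsg.Agent.H403 Cfsg.Agent.H403.NumTop Cfsg.Agent.LieClassical.HermSiegel Cfsg

section

variable {F : Type*} [Field F] [Fintype F] {E : Type*} [Field E] [Algebra F E]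
variable {n q : ℕ}

theorem exists_perm {ι : Type*} [Finite ι] {x : ℤ} (y : ι → Eˣ) (hinj : Injective y) (hcl : ∀ i, ∃ j, y j = y i ^ x)
    (hx : ∀ i j, y i ^ x = y j ^ x → y i = y j) : ∃ π : Equiv.Perm ι, ∀ i, y (π i) = y i ^ x := by
  classical
  choose f hf using hcl
  have h1 : Injective f := by
    intro i j h
    apply hinj
    apply hx
    rw [← hf, ← hf, h]
  exact ⟨Equiv.ofBijective f (Finite.injective_iff_bijective.1 h1), hf⟩

/-- elements with given distinct eigenvalues -/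
theorem exists_su (hF : Fintype.card F = q ^ 2) {ι : Type*} [Fintype ι] (hι : Fintype.card ι = n) (hn : 1 ≤ n)
    (y : ι → Eˣ) (hinj : Injective y) (hcl : ∀ i, ∃ j, y j = y i ^ (-(q : ℤ))) (h1 : ∏ i, y i = 1) :
    ∃ s : SU n F q, (mat s).charpoly.map (algebraMap F E) = ∏ i, (X - C (y i : E)) := by
  obtain ⟨m, rfl⟩ : ∃ m, n = m + 1 := ⟨n - 1, by omega⟩
  obtain ⟨Φ, hΦ⟩ := exists_powHomE (t := 1) hF E
  obtain ⟨π, hπ⟩ := exists_perm (x := -(q : ℤ)) y hinj hcl (by
    intro i j h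
    rw [_root_.zpow_neg, _root_.zpow_neg, inv_inj, zpow_natCast, zpow_natCast] at h
    apply Units.ext
    apply Φ.injective
    rw [hΦ, hΦ, ← Units.val_pow_eq_pow_val, ← Units.val_pow_eq_pow_val, h])
  obtain ⟨f, hf, hfm⟩ := H700.PsuRow.exists_pol (L := E) hF hι y π hπ h1
  obtain ⟨s, hs⟩ := H700.PsuRow.exists_su_of_pol hF hf
  exact ⟨s, by rw [hs, hfm]⟩

theorem zpow_eq_iff {N : ℕ} {b : Eˣ} (ob : orderOf b = N) (a c : ℤ) : b ^ a = b ^ c ↔ (a : ZMod N) = (c : ZMod N) := by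
  rw [zpow_eq_zpow_iff_modEq, ob, ZMod.intCast_eq_intCast_iff]

/-- the eigenvalues -/
def ev (x : ℤ) (m l : ℕ) (b c : Eˣ) : (Fin m × Bool) ⊕ (Fin l ⊕ Unit) → Eˣ
  | Sum.inl (i, false) => b ^ (x ^ (i : ℕ))
  | Sum.inl (i, true) => (b ^ (x ^ (i : ℕ)))⁻¹
  | Sum.inr (Sum.inl j) => c ^ (x ^ (j : ℕ))
  | Sum.inr (Sum.inr _) => 1

section ev

variable {x : ℤ} {m l N s : ℕ} {b c : Eˣ} (ob : orderOf b = N) (oc : orderOf c = s)
  (hm : orderOf ((x : ℤ) : ZMod N) = 2 * m) (hm1 : ((x : ℤ) : ZMod N) ^ m = -1)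
  (hl : orderOf ((x : ℤ) : ZMod s) = l) (hm0 : 1 ≤ m) (hl0 : 1 ≤ l)

include ob hm1 in
theorem b_inv (i : ℕ) : (b ^ (x ^ i))⁻¹ = b ^ (x ^ (i + m)) := by
  rw [← _root_.zpow_neg, zpow_eq_iff ob]
  push_cast
  rw [pow_add, hm1]
  ring

include ob hm1 in
theorem b_two : b ^ (x ^ (2 * m)) = b := by
  have h := b_inv ob hm1 m
  rw [← two_mul] at h
  rw [← h]
  have h2 := b_inv ob hm1 0
  rw [Nat.zero_add, pow_zero, zpow_one] at h2
  rw [← h2, inv_inv]

include oc hl in
theorem c_l : c ^ (x ^ l) = c := by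
  have : c ^ (x ^ l) = c ^ (1 : ℤ) := by
    rw [zpow_eq_iff oc]
    push_cast
    rw [← hl, pow_orderOf_eq_one]
  rw [this, zpow_one]

include ob oc hm hm1 hl in
/-- distinctness -/
theorem ev_injective (hNs : Nat.Coprime N s) (hN1 : 1 < N) (hs1 : 1 < s) : Injective (ev x m l b c) := by
  have hbinj : ∀ i j : ℕ, i < 2 * m → j < 2 * m → b ^ (x ^ i) = b ^ (x ^ j) → i = j := by
    intro i j hi hj h
    rw [zpow_eq_iff ob] at h
    push_cast at h
    rw [← hm] at hi hj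
    exact pow_injOn_Iio_orderOf hi hj h
  have hcinj : ∀ i j : ℕ, i < l → j < l → c ^ (x ^ i) = c ^ (x ^ j) → i = j := by
    intro i j hi hj h
    rw [zpow_eq_iff oc] at h
    push_cast at h
    rw [← hl] at hi hj
    exact pow_injOn_Iio_orderOf hi hj h
  have hb1 : ∀ i, i ≤ 2 * m → b ^ (x ^ i) ≠ 1 := by
    intro i hi h
    have h1 : b = 1 := by
      calc b = b ^ (x ^ (2 * m)) := (b_two ob hm1).symm
        _ = (b ^ (x ^ i)) ^ (x ^ (2 * m - i)) := by rw [← _root_.zpow_mul, ← pow_add]; congr 2; omega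
        _ = 1 := by rw [h, one_zpow]
    rw [h1, orderOf_one] at ob
    omega
  have hc1 : ∀ i, i < l → c ^ (x ^ i) ≠ 1 := by
    intro i hi h
    have h1 : c = 1 := by
      calc c = c ^ (x ^ l) := (c_l oc hl).symm
        _ = (c ^ (x ^ i)) ^ (x ^ (l - i)) := by rw [← _root_.zpow_mul, ← pow_add]; congr 2; omega
        _ = 1 := by rw [h, one_zpow]
    rw [h1, orderOf_one] at oc
    omega
  have hbc : ∀ i j : ℕ, i ≤ 2 * m → b ^ (x ^ i) ≠ c ^ (x ^ j) := by
    intro i j hi h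
    apply hb1 i hi
    have h1 : (b ^ (x ^ i)) ^ N = 1 := by
      rw [← zpow_natCast, ← _root_.zpow_mul, mul_comm, _root_.zpow_mul, zpow_natCast, ← ob, pow_orderOf_eq_one, one_zpow]
    have h2 : (b ^ (x ^ i)) ^ s = 1 := by
      rw [h, ← zpow_natCast, ← _root_.zpow_mul, mul_comm, _root_.zpow_mul, zpow_natCast, ← oc, pow_orderOf_eq_one, one_zpow]
    have h3 := Nat.dvd_gcd (orderOf_dvd_of_pow_eq_one h1) (orderOf_dvd_of_pow_eq_one h2)
    rw [hNs.gcd_eq_one, Nat.dvd_one, orderOf_eq_one_iff] at h3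
    exact h3
  rintro (⟨i, β⟩ | (i | ⟨⟩)) (⟨j, γ⟩ | (j | ⟨⟩)) h
  · have hi := i.2
    have hj := j.2
    cases β <;> cases γ <;> simp only [ev] at h
    · have h1 := hbinj _ _ (by omega) (by omega) h
      rw [Fin.ext h1]
    · rw [b_inv ob hm1] at h
      have h1 := hbinj _ _ (by omega) (by omega) h
      omega
    · rw [b_inv ob hm1] at h
      have h1 := hbinj _ _ (by omega) (by omega) h
      omega
    · rw [b_inv ob hm1, b_inv ob hm1] at h
      have h1 := hbinj _ _ (by omega) (by omega) h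
      rw [Fin.ext (show (i : ℕ) = j by omega)]
  · exfalso
    have hi := i.2
    cases β <;> simp only [ev] at h
    · exact hbc _ _ (by omega) h
    · rw [b_inv ob hm1] at h
      exact hbc _ _ (by omega) h
  · exfalso
    have hi := i.2
    cases β <;> simp only [ev] at h
    · exact hb1 _ (by omega) h
    · rw [b_inv ob hm1] at h
      exact hb1 _ (by omega) h
  · exfalso
    have hj := j.2
    cases γ <;> simp only [ev] at h
    · exact hbc _ _ (by omega) h.symm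
    · rw [b_inv ob hm1] at h
      exact hbc _ _ (by omega) h.symm
  · simp only [ev] at h
    have h1 := hcinj _ _ i.2 j.2 h
    rw [Fin.ext h1]
  · exfalso
    simp only [ev] at h
    exact hc1 _ i.2 h
  · exfalso
    have hj := j.2
    cases γ <;> simp only [ev] at h
    · exact hb1 _ (by omega) h.symm
    · rw [b_inv ob hm1] at h
      exact hb1 _ (by omega) h.symm
  · exfalso
    simp only [ev] at h
    exact hc1 _ j.2 h.symm
  · rfl

include ob oc hm1 hl hm0 hl0 in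
theorem ev_closed : ∀ i, ∃ j, ev x m l b c j = ev x m l b c i ^ x := by
  have hb : ∀ i : Fin m, ∃ j, ev x m l b c j = b ^ (x ^ ((i : ℕ) + 1)) := by
    intro i
    by_cases hi : (i : ℕ) + 1 < m
    · exact ⟨Sum.inl (⟨(i : ℕ) + 1, hi⟩, false), rfl⟩
    · refine ⟨Sum.inl (⟨0, hm0⟩, true), ?_⟩
      have : (i : ℕ) + 1 = 0 + m := by have := i.2; omega
      simp only [ev]
      rw [this, b_inv ob hm1]
  have hb' : ∀ i : Fin m, ∃ j, ev x m l b c j = (b ^ (x ^ ((i : ℕ) + 1)))⁻¹ := by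
    intro i
    by_cases hi : (i : ℕ) + 1 < m
    · exact ⟨Sum.inl (⟨(i : ℕ) + 1, hi⟩, true), rfl⟩
    · refine ⟨Sum.inl (⟨0, hm0⟩, false), ?_⟩
      have : (i : ℕ) + 1 = 0 + m := by have := i.2; omega
      simp only [ev]
      rw [this, ← b_inv ob hm1, inv_inv]
  rintro (⟨i, β⟩ | (i | ⟨⟩))
  · cases β
    · obtain ⟨j, hj⟩ := hb i
      refine ⟨j, ?_⟩
      rw [hj]
      simp only [ev]
      rw [← _root_.zpow_mul, ← pow_succ]
    · obtain ⟨j, hj⟩ := hb' i
      refine ⟨j, ?_⟩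
      rw [hj]
      simp only [ev]
      rw [inv_zpow, ← _root_.zpow_mul, ← pow_succ]
  · by_cases hi : (i : ℕ) + 1 < l
    · refine ⟨Sum.inr (Sum.inl ⟨(i : ℕ) + 1, hi⟩), ?_⟩
      simp only [ev]
      rw [← _root_.zpow_mul, ← pow_succ]
    · refine ⟨Sum.inr (Sum.inl ⟨0, hl0⟩), ?_⟩
      have : (i : ℕ) + 1 = l := by have := i.2; omega
      simp only [ev]
      rw [← _root_.zpow_mul, ← pow_succ, this, c_l oc hl, pow_zero, zpow_one]
  · exact ⟨Sum.inr (Sum.inr ()), by simp only [ev]; rw [one_zpow]⟩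

include oc hl in
/-- the block of size `l` has determinant one -/
theorem prod_c (hx1 : IsCoprime (s : ℤ) (x - 1)) : ∏ j : Fin l, c ^ (x ^ (j : ℕ)) = 1 := by
  rw [Fin.prod_univ_eq_prod_range (fun j => c ^ (x ^ j)) l]
  have h1 : ∀ k : ℕ, ∏ j ∈ Finset.range k, c ^ (x ^ j) = c ^ (∑ j ∈ Finset.range k, x ^ j) := by
    intro k
    induction k with
    | zero => simp
    | succ k ih => rw [Finset.prod_range_succ, Finset.sum_range_succ, ih, ← _root_.zpow_add]
  rw [h1]
  have h2 : (s : ℤ) ∣ (∑ j ∈ Finset.range l, x ^ j) * (x - 1) := by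
    rw [geom_sum_mul, ← ZMod.intCast_zmod_eq_zero_iff_dvd]
    push_cast
    rw [← hl, pow_orderOf_eq_one, sub_self]
  obtain ⟨d, hd⟩ := hx1.dvd_of_dvd_mul_right h2
  rw [hd, _root_.zpow_mul, zpow_natCast, ← oc, pow_orderOf_eq_one, one_zpow]

include oc hl in
/-- all the classes -/
theorem exists_J (hx1 : IsCoprime (s : ℤ) (x - 1)) (hlm : l ≤ 2 * m + 2) {d : ℕ} (hd : d ≤ 2 * m + l + 1) :
    ∃ J : Finset ((Fin m × Bool) ⊕ (Fin l ⊕ Unit)), J.card = d ∧ ∏ j ∈ J, ev x m l b c j = 1 := by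
  classical
  -- the pairs
  have hA : ∀ k ≤ m, ∃ A : Finset (Fin m × Bool), A.card = 2 * k ∧ ∏ j ∈ A, ev x m l b c (Sum.inl j) = 1 := by
    intro k hk
    refine ⟨(Finset.univ.filter fun i : Fin m => (i : ℕ) < k) ×ˢ Finset.univ, ?_, ?_⟩
    · rw [Finset.card_product, Finset.card_univ, Fintype.card_bool, Fin.card_filter_val_lt, min_eq_right hk, mul_comm]
    · rw [Finset.prod_product]
      refine Finset.prod_eq_one fun i _ => ?_
      rw [Fintype.prod_bool]
      simp only [ev]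
      exact inv_mul_cancel _
  have hB : ∀ k ≤ 2 * m + 1, ∃ A : Finset ((Fin m × Bool) ⊕ (Fin l ⊕ Unit)), A.card = k ∧
      ∏ j ∈ A, ev x m l b c j = 1 ∧ ∀ j : Fin l, Sum.inr (Sum.inl j) ∉ A := by
    intro k hk
    rcases Nat.even_or_odd' k with ⟨k', rfl | rfl⟩
    · obtain ⟨A, hA1, hA2⟩ := hA k' (by omega)
      refine ⟨A.map ⟨Sum.inl, Sum.inl_injective⟩, by rw [Finset.card_map, hA1], ?_, ?_⟩
      · rw [Finset.prod_map]
        exact hA2
      · intro j hj
        simp at hj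
    · obtain ⟨A, hA1, hA2⟩ := hA k' (by omega)
      refine ⟨insert (Sum.inr (Sum.inr ())) (A.map ⟨Sum.inl, Sum.inl_injective⟩), ?_, ?_, ?_⟩
      · rw [Finset.card_insert_of_notMem (by simp), Finset.card_map, hA1]
      · rw [Finset.prod_insert (by simp), Finset.prod_map]
        simp only [ev, one_mul]
        exact hA2
      · intro j hj
        simp at hj
  by_cases h : d ≤ 2 * m + 1
  · obtain ⟨A, h1, h2, -⟩ := hB d h
    exact ⟨A, h1, h2⟩
  · obtain ⟨A, h1, h2, h3⟩ := hB (d - l) (by omega)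
    refine ⟨A ∪ (Finset.univ.map ⟨fun j : Fin l => Sum.inr (Sum.inl j), fun i j h => by simpa using h⟩), ?_, ?_⟩
    · rw [Finset.card_union_of_disjoint, Finset.card_map, Finset.card_univ, Fintype.card_fin, h1]
      · omega
      · rw [Finset.disjoint_right]
        intro w hw
        obtain ⟨j, -, rfl⟩ := Finset.mem_map.1 hw
        exact h3 j
    · rw [Finset.prod_union, Finset.prod_map, h2, one_mul]
      · exact prod_c oc hl hx1
      · rw [Finset.disjoint_right]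
        intro w hw
        obtain ⟨j, -, rfl⟩ := Finset.mem_map.1 hw
        exact h3 j

end ev

end

end Cfsg.Agent.H44.Cov
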