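import Cfsg.Agent.H44.Cov.Spec
import Cfsg.Agent.H44.Cov.Elt
import Cfsg.Agent.H403.LinSpec
import Cfsg.Agent.H403.LinChar
import Cfsg.Agent.H373.CV.Base

/-!
# `PSU_n(q)`, `n ≥ 6` even, own characteristic: rows of S3442 (helper44)
-/

set_option autoImplicit false
set_option linter.unusedSectionVars false
set_option linter.unusedSimpArgs false

namespace Cfsg.Agent.H44.Cov

open Polynomial Function Cfsg.Agent.H403 Cfsg.Agent.H403.NumTop Cfsg.Agent.LieClassical.HermSiegel Cfsg
open Cfsg.Agent.H373.CV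

universe u

section

variable {F : Type} [Field F] [Fintype F] {n q : ℕ}

/-- the engine of the own characteristic for `SU_n(q)` -/
def EngSU (F : Type) [Field F] [Fintype F] (p n q : ℕ) : Prop :=
  ∀ (x : SU n F q), (orderOf x).Coprime p → ∀ t : Fin n → AlgebraicClosure F,
    (mat x).charpoly.map (algebraMap F (AlgebraicClosure F)) = ∏ i, (X - C (t i)) →
    (∀ d ≤ n, ∃ J : Finset (Fin n), J.card = d ∧ ∏ j ∈ J, t j = 1) →
    ∀ (W : Type u) [AddCommGroup W] [Finite W] [Nontrivial W], (∀ w : W, p • w = 0) →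
      ∀ φ : SU n F q →* AddMonoid.End W, ∃ w : W, w ≠ 0 ∧ φ x w = w

/-- the engine of the own characteristic for `PSU_n(p)`, `p` prime: only the classes of weights which are trivial on
the centre -/
def EngPSU (F : Type) [Field F] [Fintype F] (p n : ℕ) : Prop :=
  ∀ (x : SU n F p), (orderOf x).Coprime p → ∀ t : Fin n → AlgebraicClosure F,
    (mat x).charpoly.map (algebraMap F (AlgebraicClosure F)) = ∏ i, (X - C (t i)) →
    (∀ d ≤ n, Nat.gcd n (p + 1) ∣ d → ∃ J : Finset (Fin n), J.card = d ∧ ∏ j ∈ J, t j = 1) →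
    ∀ (W : Type u) [AddCommGroup W] [Finite W] [Nontrivial W], (∀ w : W, p • w = 0) →
      ∀ φ : PSU n F p →* AddMonoid.End W, ∃ w : W, w ≠ 0 ∧ φ (QuotientGroup.mk x) w = w

/-- a fixed vector gives a nonzero norm -/
theorem hit_of {p : ℕ} {L : Type} [Group L] (x : L) (hcop : (orderOf x).Coprime p)
    (hfix : ∀ (W : Type u) [AddCommGroup W] [Finite W] [Nontrivial W], (∀ w : W, p • w = 0) →
      ∀ φ : L →* AddMonoid.End W, ∃ w : W, w ≠ 0 ∧ φ x w = w)
    (hno : ¬ ∃ g : L, orderOf g = p * orderOf x) : Hit.{u, 0} p L := by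
  intro W _ _ _ hW φ
  obtain ⟨w, hw0, hw⟩ := hfix W hW φ
  refine ⟨x, w, ?_, fun y hy => hno ⟨y, hy⟩⟩
  have h1 : ∀ i : ℕ, φ (x ^ i) w = w := by
    intro i
    induction i with
    | zero => rw [pow_zero, map_one]; rfl
    | succ i ih =>
      rw [pow_succ, map_mul]
      show φ (x ^ i) (φ x w) = w
      rw [hw, ih]
  rw [Finset.sum_congr rfl fun i _ => h1 i, Finset.sum_const, Finset.card_range]
  intro h2
  apply hw0
  have h3 : addOrderOf w ∣ Nat.gcd (orderOf x) p :=
    Nat.dvd_gcd (addOrderOf_dvd_of_nsmul_eq_zero h2) (addOrderOf_dvd_of_nsmul_eq_zero (hW w))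
  rw [hcop.gcd_eq_one, Nat.dvd_one, AddMonoid.addOrderOf_eq_one_iff] at h3
  exact h3

theorem evs_eq {E : Type*} [Field E] [IsAlgClosed E] [Algebra F E] {M : Matrix (Fin n) (Fin n) F} {t : Fin n → E}
    (h : M.charpoly.map (algebraMap F E) = ∏ i, (X - C (t i))) : evs E M = Finset.univ.val.map t := by
  rw [evs, h]
  have : ∏ i, (X - C (t i)) = ((Finset.univ.val.map t).map fun a => X - C a).prod := by
    rw [Multiset.map_map]
    rfl
  rw [this, roots_multiset_prod_X_sub_C]

/-- the elements with blocks `2 m`, `l`, `1` -/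
theorem exists_elt {E : Type*} [Field E] [IsAlgClosed E] [Algebra F E] (hF : Fintype.card F = q ^ 2) {m l N s : ℕ}
    {b c : Eˣ} (ob : orderOf b = N) (oc : orderOf c = s)
    (hm : orderOf ((xv false q : ℤ) : ZMod N) = 2 * m) (hm1 : ((xv false q : ℤ) : ZMod N) ^ m = -1)
    (hl : orderOf ((xv false q : ℤ) : ZMod s) = l) (hm0 : 1 ≤ m) (hl0 : 1 ≤ l) (hNs : Nat.Coprime N s) (hN1 : 1 < N)
    (hs1 : 1 < s) (hx1 : IsCoprime (s : ℤ) (xv false q - 1)) (hlm : l ≤ 2 * m + 2) (hn : n = 2 * m + l + 1) :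
    ∃ (g : SU n F q) (t : Fin n → E), (mat g).charpoly.map (algebraMap F E) = ∏ i, (X - C (t i)) ∧
      (∀ d ≤ n, ∃ J : Finset (Fin n), J.card = d ∧ ∏ j ∈ J, t j = 1) ∧ g ^ (N * s) = 1 ∧
      orderOf (QuotientGroup.mk g : PSU n F q) = N * s := by
  classical
  have hx : xv false q = -(q : ℤ) := rfl
  set y := ev (xv false q) m l b c with hy
  have hinj : Injective y := ev_injective ob oc hm hm1 hl hNs hN1 hs1
  have hι : Fintype.card ((Fin m × Bool) ⊕ (Fin l ⊕ Unit)) = n := by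
    simp
    omega
  obtain ⟨J0, hJ0, hJ1⟩ := exists_J (b := b) (m := m) oc hl hx1 hlm (d := 2 * m + l + 1) le_rfl
  have hJ : J0 = Finset.univ := by
    rw [← Finset.card_eq_iff_eq_univ, hJ0, hι, hn]
  obtain ⟨g, hg⟩ := exists_su hF hι (by omega) y hinj (by
    rw [← hx]
    exact ev_closed ob oc hm1 hl hm0 hl0) (by rw [← hJ]; exact hJ1)
  let e : ((Fin m × Bool) ⊕ (Fin l ⊕ Unit)) ≃ Fin n := Fintype.equivFinOfCardEq hι
  set t : Fin n → E := fun i => (y (e.symm i) : E) with ht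
  have hch : (mat g).charpoly.map (algebraMap F E) = ∏ i, (X - C (t i)) := by
    rw [hg, ht, ← Equiv.prod_comp e.symm fun i => (X - C (y i : E))]
  have hevs := evs_eq hch
  have htinj : Injective t := fun i j h => e.symm.injective (hinj (Units.ext h))
  have hpow : ∀ i, y i ^ (N * s) = 1 := by
    have hb : ∀ a : ℤ, (b ^ a) ^ (N * s) = 1 := by
      intro a
      rw [← zpow_natCast, ← _root_.zpow_mul, mul_comm a, _root_.zpow_mul, zpow_natCast, pow_mul, ← ob, pow_orderOf_eq_one, one_pow,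
        one_zpow]
    have hc : ∀ a : ℤ, (c ^ a) ^ (N * s) = 1 := by
      intro a
      rw [← zpow_natCast, ← _root_.zpow_mul, mul_comm a, _root_.zpow_mul, zpow_natCast, mul_comm N, pow_mul, ← oc, pow_orderOf_eq_one, one_pow,
        one_zpow]
    rintro (⟨i, β⟩ | (i | ⟨⟩))
    · cases β
      · exact hb _
      · change ((b ^ (xv false q ^ (i : ℕ)))⁻¹) ^ (N * s) = 1
        rw [inv_pow, hb, inv_one]
    · exact hc _
    · exact one_pow _
  have hN0 : 0 < N * s := Nat.mul_pos (by omega) (by omega)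
  have hM : mat g ^ (N * s) = 1 := by
    have h1 := pow_eq_smul_of_nodup E (M := mat g) hN0 (c := 1) (by
      rw [hevs]
      exact (Multiset.nodup_map_iff_of_injective htinj).2 Finset.univ.nodup) (by
      intro z hz
      rw [hevs] at hz
      obtain ⟨i, -, rfl⟩ := Multiset.mem_map.1 hz
      rw [map_one, ht]
      beta_reduce
      rw [← Units.val_pow_eq_pow_val, hpow, Units.val_one])
    rwa [one_smul] at h1
  have hgN : g ^ (N * s) = 1 := by
    apply Subtype.ext
    apply Subtype.ext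
    rw [SubmonoidClass.coe_pow, Matrix.SpecialLinearGroup.coe_pow]
    exact hM
  refine ⟨g, t, hch, ?_, hgN, ?_⟩
  · intro d hd
    obtain ⟨J, h1, h2⟩ := exists_J (b := b) (m := m) oc hl hx1 hlm (d := d) (by omega)
    refine ⟨J.map e.toEmbedding, by rw [Finset.card_map, h1], ?_⟩
    rw [Finset.prod_map]
    have h3 : ∀ j ∈ J, t (e.toEmbedding j) = ((y j : Eˣ) : E) := by
      intro j _
      rw [ht]
      simp
    rw [Finset.prod_congr rfl h3, ← Units.coe_prod, h2, Units.val_one]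
  · apply Nat.dvd_antisymm
    · apply orderOf_dvd_of_pow_eq_one
      rw [← QuotientGroup.mk_pow, hgN]
      rfl
    · obtain ⟨w, hw⟩ := (psu_pow_iff hF (by omega) g (orderOf (QuotientGroup.mk g : PSU n F q))).1 (pow_orderOf_eq_one _)
      have h1 : ∀ i, ((y i : Eˣ) : E) ^ (orderOf (QuotientGroup.mk g : PSU n F q)) = algebraMap F E w := by
        intro i
        apply pow_of_mem_evs E hw
        change _ ∈ evs E (mat g)
        rw [hevs]
        refine Multiset.mem_map.2 ⟨e i, Finset.mem_univ_val _, ?_⟩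
        rw [ht]
        simp
      have h2 := h1 (Sum.inr (Sum.inr ()))
      have h3 : algebraMap F E w = 1 := by
        rw [← h2]
        exact one_pow _
      have h4 : N ∣ orderOf (QuotientGroup.mk g : PSU n F q) := by
        rw [← ob]
        apply orderOf_dvd_of_pow_eq_one
        have h5 := h1 (Sum.inl (⟨0, hm0⟩, false))
        rw [h3] at h5
        apply Units.ext
        rw [Units.val_pow_eq_pow_val, Units.val_one, ← h5]
        congr 1
        change (b : E) = ((b ^ (xv false q ^ 0) : Eˣ) : E)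
        rw [pow_zero, zpow_one]
      have h6 : s ∣ orderOf (QuotientGroup.mk g : PSU n F q) := by
        rw [← oc]
        apply orderOf_dvd_of_pow_eq_one
        have h5 := h1 (Sum.inr (Sum.inl ⟨0, hl0⟩))
        rw [h3] at h5
        apply Units.ext
        rw [Units.val_pow_eq_pow_val, Units.val_one, ← h5]
        congr 1
        change (c : E) = ((c ^ (xv false q ^ 0) : Eˣ) : E)
        rw [pow_zero, zpow_one]
      exact hNs.mul_dvd_of_dvd_of_dvd h4 h6

/-- units of given order in an algebraically closed field -/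
theorem exists_unit {E : Type*} [Field E] [IsAlgClosed E] {p : ℕ} [CharP E p] {N : ℕ} (hN : N.Coprime p)
    (hN0 : N ≠ 0) (hp : p.Prime) : ∃ b : Eˣ, orderOf b = N := by
  have h1 : NeZero (N : E) := ⟨fun h => by
    have h2 := (CharP.cast_eq_zero_iff E p N).1 h
    exact hp.one_lt.ne' (Nat.eq_one_of_dvd_coprimes hN h2 dvd_rfl)⟩
  have : NeZero N := ⟨hN0⟩
  obtain ⟨z, hz⟩ := HasEnoughRootsOfUnity.exists_primitiveRoot E N
  obtain ⟨u, rfl⟩ := hz.isUnit hN0
  exact ⟨u, ((IsPrimitiveRoot.coe_units_iff).1 hz).eq_orderOf.symm⟩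

theorem hit_gen {p : ℕ} [hp : Fact p.Prime] [CharP F p] (hF : Fintype.card F = q ^ 2) (heng : EngSU.{u} F p n q)
    {m l N s : ℕ} (hm : orderOf ((xv false q : ℤ) : ZMod N) = 2 * m) (hm1 : ((xv false q : ℤ) : ZMod N) ^ m = -1)
    (hl : orderOf ((xv false q : ℤ) : ZMod s) = l) (hm0 : 1 ≤ m) (hl0 : 1 ≤ l) (hNs : Nat.Coprime N s) (hN1 : 1 < N)
    (hs1 : 1 < s) (hNp : N.Coprime p) (hsp : s.Coprime p) (hx1 : IsCoprime (s : ℤ) (xv false q - 1))
    (hlm : l ≤ 2 * m + 2) (hn : n = 2 * m + l + 1) (hno : ¬ ∃ g : PSU n F q, orderOf g = p * (N * s)) :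
    Hit.{u, 0} p (PSU n F q) := by
  have : CharP (AlgebraicClosure F) p := charP_of_injective_algebraMap (algebraMap F (AlgebraicClosure F)).injective p
  obtain ⟨b, ob⟩ := exists_unit (E := AlgebraicClosure F) hNp (by omega) hp.out
  obtain ⟨c, oc⟩ := exists_unit (E := AlgebraicClosure F) hsp (by omega) hp.out
  obtain ⟨g, t, h1, h2, h3, h4⟩ := exists_elt hF ob oc hm hm1 hl hm0 hl0 hNs hN1 hs1 hx1 hlm hn
  have hcop : (N * s).Coprime p := Nat.Coprime.mul_left hNp hsp
  refine hit_of (QuotientGroup.mk g : PSU n F q) (by rw [h4]; exact hcop) ?_ (by rw [h4]; exact hno)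
  intro W _ _ _ hW φ
  obtain ⟨w, hw0, hw⟩ := heng g (Nat.Coprime.coprime_dvd_left (orderOf_dvd_of_pow_eq_one h3) hcop) t h1 h2 W hW
    (φ.comp (QuotientGroup.mk' _))
  exact ⟨w, hw0, hw⟩

/-! ### numbers -/

theorem pow_half {r m : ℕ} (hr : r.Prime) {z : ZMod r} (hz : orderOf z = 2 * m) (hm0 : 1 ≤ m) : z ^ m = -1 := by
  have := Fact.mk hr
  have h1 : (z ^ m - 1) * (z ^ m + 1) = 0 := by
    have h2 : z ^ (2 * m) = 1 := by rw [← hz, pow_orderOf_eq_one]
    have : (z ^ m - 1) * (z ^ m + 1) = z ^ (2 * m) - 1 := by ring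
    rw [this, h2, sub_self]
  rcases mul_eq_zero.1 h1 with h | h
  · exfalso
    have h2 := orderOf_dvd_of_pow_eq_one (sub_eq_zero.1 h)
    rw [hz] at h2
    have := Nat.le_of_dvd (by omega) h2
    omega
  · exact eq_neg_of_add_eq_zero_left h

theorem coprime_x {s l : ℕ} (hs : s.Prime) {x : ℤ} (hl : orderOf ((x : ℤ) : ZMod s) = l) (hl2 : 2 ≤ l) :
    IsCoprime (s : ℤ) (x - 1) := by
  rw [Int.isCoprime_iff_gcd_eq_one]
  have h1 : ¬ (s : ℤ) ∣ x - 1 := by
    intro h
    rw [← ZMod.intCast_zmod_eq_zero_iff_dvd] at h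
    push_cast at h
    rw [sub_eq_zero.1 h, orderOf_one] at hl
    omega
  have h2 : Nat.Coprime s (x - 1).natAbs := by
    rw [Nat.Prime.coprime_iff_not_dvd hs]
    intro h
    exact h1 (Int.natCast_dvd.2 h)
  exact h2

theorem coprime_p {p s l : ℕ} (hp : p.Prime) (hs : s.Prime) (hpq : p ∣ q)
    (hl : orderOf ((xv false q : ℤ) : ZMod s) = l) (hl1 : 1 ≤ l) : s.Coprime p := by
  rw [Nat.Prime.coprime_iff_not_dvd hs]
  intro h
  exact not_dvd_q hs hl hl1 (h.trans hpq)

/-- two prime divisors -/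
theorem hit_primes {p : ℕ} [hp : Fact p.Prime] [CharP F p] (hF : Fintype.card F = q ^ 2) (hpq : p ∣ q)
    (heng : EngSU.{u} F p n q) {m l r s : ℕ} (hr : r.Prime) (hs : s.Prime)
    (hm : orderOf ((xv false q : ℤ) : ZMod r) = 2 * m) (hl : orderOf ((xv false q : ℤ) : ZMod s) = l)
    (hm0 : 1 ≤ m) (hl2 : 2 ≤ l) (hml : 2 * m + 1 = l ∨ l + 1 = 2 * m) (hn : n = 2 * m + l + 1) (hn6 : 6 ≤ n) :
    Hit.{u, 0} p (PSU n F q) := by
  have hne : r ≠ s := by
    rintro rfl
    rw [hm] at hl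
    omega
  have hcop : Nat.Coprime (2 * m) l := by
    rcases hml with h | h
    · rw [← h]; simp
    · rw [← h]; simp
  refine hit_gen hF heng hm (pow_half hr hm hm0) hl hm0 (by omega) ((Nat.coprime_primes hr hs).2 hne) hr.one_lt
    hs.one_lt (coprime_p hp.out hr hpq hm (by omega)) (coprime_p hp.out hs hpq hl (by omega)) (coprime_x hs hl hl2)
    (by omega) hn ?_
  refine not_prs (E := AlgebraicClosure F) (lin_psu hF (by omega)) (by simpa using hF) hp.out hpq hr hs hm hl (by omega)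
    hl2 hn ?_
  rw [hcop.lcm_eq_mul]
  have h1 : 2 ≤ 2 * m := by omega
  nlinarith

theorem hit_ge_eight {p : ℕ} [hp : Fact p.Prime] [CharP F p] (hF : Fintype.card F = q ^ 2) (hpq : p ∣ q)
    (heng : EngSU.{u} F p n q) (hn : Even n) (hn8 : 8 ≤ n) (h82 : ¬ (n = 8 ∧ q = 2)) : Hit.{u, 0} p (PSU n F q) := by
  have hq : 2 ≤ q := two_le_of_card (t := 1) hF
  obtain ⟨k, hk⟩ := hn
  rcases Nat.even_or_odd' k with ⟨m, rfl | rfl⟩
  · -- blocks `2 m`, `2 m - 1`, `1`
    obtain ⟨r, hr, -, hm⟩ := exists_prime (e := false) (i := 2 * m) hq (by omega) (by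
      rintro (⟨h, -⟩ | ⟨-, h, h2⟩)
      · cases h
      · omega)
    obtain ⟨s, hs, -, hl⟩ := exists_prime (e := false) (i := 2 * m - 1) hq (by omega) (by
      rintro (⟨h, -⟩ | ⟨-, h, h2⟩)
      · cases h
      · omega)
    exact hit_primes hF hpq heng hr hs hm hl (by omega) (by omega) (Or.inr (by omega)) (by omega) (by omega)
  · obtain ⟨r, hr, -, hm⟩ := exists_prime (e := false) (i := 2 * m) hq (by omega) (by
      rintro (⟨h, -⟩ | ⟨-, h, h2⟩)
      · cases h
      · omega)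
    obtain ⟨s, hs, -, hl⟩ := exists_prime (e := false) (i := 2 * m + 1) hq (by omega) (by
      rintro (⟨h, -⟩ | ⟨-, h, h2⟩)
      · cases h
      · omega)
    exact hit_primes hF hpq heng hr hs hm hl (by omega) (by omega) (Or.inl (by omega)) (by omega) (by omega)

/-! ### `n = 6` -/

theorem x_eq_neg_one {r : ℕ} (hq : 1 ≤ q) (h : r ∣ q - 1) : ((xv false q : ℤ) : ZMod r) = -1 := by
  have h1 : (r : ℤ) ∣ xv false q + 1 := by
    have h2 : xv false q + 1 = -((q - 1 : ℕ) : ℤ) := by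
      unfold xv
      rw [if_neg (by decide)]
      push_cast [Nat.cast_sub hq]
      ring
    rw [h2, dvd_neg]
    exact Int.natCast_dvd_natCast.2 h
  rw [← ZMod.intCast_zmod_eq_zero_iff_dvd] at h1
  push_cast at h1
  exact eq_neg_of_add_eq_zero_left h1

theorem hit_six {p : ℕ} [hp : Fact p.Prime] [CharP F p] (hF : Fintype.card F = q ^ 2) (hpq : p ∣ q)
    (heng : EngSU.{u} F p 6 q) (hq4 : 4 ≤ q) : Hit.{u, 0} p (PSU 6 F q) := by
  obtain ⟨s, hs, -, hl⟩ := exists_prime (e := false) (i := 3) (q := q) (by omega) le_rfl (by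
    rintro (⟨h, -⟩ | ⟨-, h, h2⟩)
    · cases h
    · omega)
  by_cases hr : ∃ r : ℕ, r.Prime ∧ r ≠ 2 ∧ r ∣ q - 1
  · obtain ⟨r, hr, hr2, hrq⟩ := hr
    have h1 := x_eq_neg_one (q := q) (by omega) hrq
    have h2 : orderOf ((xv false q : ℤ) : ZMod r) = 2 * 1 := by
      have := Fact.mk hr
      rw [h1, orderOf_neg_one, if_neg]
      rw [ZMod.ringChar_zmod_n]
      exact hr2
    exact hit_primes hF hpq heng hr hs h2 hl le_rfl (by omega) (Or.inl (by omega)) (by omega) (by omega)
  · push Not at hr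
    have h1 : ∀ r, r.Prime → r ∣ q - 1 → r = 2 := fun r h1 h2 => by
      by_contra h3
      exact hr r h1 h3 h2
    obtain ⟨j, hj⟩ : ∃ j, q - 1 = 2 ^ j :=
      ⟨_, Nat.eq_prime_pow_of_unique_prime_dvd (by omega) fun {r} h2 h3 => h1 r h2 h3⟩
    have hj2 : 2 ≤ j := by
      by_contra hcon
      have : j = 0 ∨ j = 1 := by omega
      rcases this with rfl | rfl
      · rw [pow_zero] at hj; omega
      · rw [pow_one] at hj; omega
    have h4 : 4 ∣ q - 1 := by
      rw [hj]
      exact pow_dvd_pow 2 hj2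
    have hx := x_eq_neg_one (q := q) (by omega) h4
    have hm : orderOf ((xv false q : ℤ) : ZMod 4) = 2 * 1 := by
      have : Fact (Nat.Prime 2) := ⟨Nat.prime_two⟩
      rw [hx]
      exact orderOf_eq_prime (by decide) (by decide)
    have hs2 : s ≠ 2 := by
      rintro rfl
      have h5 := order_dvd_pred hs (by omega) hl
      norm_num at h5
    have hp2 : p ≠ 2 := by
      rintro rfl
      obtain ⟨a, ha⟩ := h4
      obtain ⟨c, hc⟩ := hpq
      omega
    refine hit_gen hF heng hm (by rw [hx, pow_one]) hl le_rfl (by omega) ?_ (by norm_num) hs.one_lt ?_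
      (coprime_p hp.out hs hpq hl (by omega)) (coprime_x hs hl (by omega)) (by omega) (by omega) ?_
    · exact Nat.Coprime.pow_left 2 ((Nat.coprime_primes Nat.prime_two hs).2 (Ne.symm hs2))
    · exact Nat.Coprime.pow_left 2 ((Nat.coprime_primes Nat.prime_two hp.out).2 (Ne.symm hp2))
    · exact not_p4s (E := AlgebraicClosure F) (lin_psu hF (by omega)) hF hp.out hpq (by omega) hs hl

/-- irreducible elements of prime order `r`, `-q` of order `n` modulo `r` -/
theorem exists_irr {E : Type*} [Field E] [IsAlgClosed E] [Algebra F E] (hF : Fintype.card F = q ^ 2) {r : ℕ}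
    {b : Eˣ} (ob : orderOf b = r) (hr : r.Prime)
    (hn : orderOf ((xv false q : ℤ) : ZMod r) = n) (hn2 : 3 ≤ n) :
    ∃ g : SU n F q, (mat g).charpoly.map (algebraMap F E) = ∏ i : Fin n, (X - C ((b ^ (xv false q ^ (i : ℕ)) : Eˣ) : E)) ∧
      g ^ r = 1 ∧ orderOf (QuotientGroup.mk g : PSU n F q) = r := by
  classical
  have hx : xv false q = -(q : ℤ) := rfl
  set y : Fin n → Eˣ := fun i => b ^ (xv false q ^ (i : ℕ)) with hy
  have hinj : Injective y := by
    intro i j h
    have h1 := (zpow_eq_iff ob _ _).1 h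
    push_cast at h1
    apply Fin.ext
    exact pow_injOn_Iio_orderOf (i.2.trans_eq hn.symm) (j.2.trans_eq hn.symm) h1
  obtain ⟨g, hg⟩ := exists_su hF (Fintype.card_fin n) (by omega) y hinj (by
    intro i
    rw [← hx]
    by_cases hi : (i : ℕ) + 1 < n
    · refine ⟨⟨(i : ℕ) + 1, hi⟩, ?_⟩
      rw [hy]
      beta_reduce
      rw [← _root_.zpow_mul, ← pow_succ]
    · refine ⟨⟨0, by omega⟩, ?_⟩
      have : (i : ℕ) + 1 = n := by have := i.2; omega
      rw [hy]
      beta_reduce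
      rw [← _root_.zpow_mul, ← pow_succ, this, c_l ob hn, pow_zero, zpow_one]) (by
    exact prod_c ob hn (coprime_x hr hn (by omega)))
  have hch : (mat g).charpoly.map (algebraMap F E) = ∏ i : Fin n, (X - C ((y i : Eˣ) : E)) := hg
  have hevs := evs_eq (t := fun i => ((y i : Eˣ) : E)) hch
  have hM : mat g ^ r = 1 := by
    have h1 := pow_eq_smul_of_nodup E (M := mat g) hr.pos (c := 1) (by
      rw [hevs]
      exact (Multiset.nodup_map_iff_of_injective (fun i j h => hinj (Units.ext h))).2 Finset.univ.nodup) (by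
      intro z hz
      rw [hevs] at hz
      obtain ⟨i, -, rfl⟩ := Multiset.mem_map.1 hz
      rw [map_one, ← Units.val_pow_eq_pow_val, hy]
      beta_reduce
      rw [← zpow_natCast, ← _root_.zpow_mul, mul_comm, _root_.zpow_mul, zpow_natCast, ← ob, pow_orderOf_eq_one, one_zpow,
        Units.val_one])
    rwa [one_smul] at h1
  have hgN : g ^ r = 1 := by
    apply Subtype.ext
    apply Subtype.ext
    rw [SubmonoidClass.coe_pow, Matrix.SpecialLinearGroup.coe_pow]
    exact hM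
  refine ⟨g, hch, hgN, ?_⟩
  have := Fact.mk hr
  refine orderOf_eq_prime (by rw [← QuotientGroup.mk_pow, hgN]; rfl) fun h => ?_
  obtain ⟨w, hw⟩ := (psu_pow_iff hF hn2 g 1).1 (by rw [pow_one]; exact h)
  have h1 : ∀ i, ((y i : Eˣ) : E) ^ 1 = algebraMap F E w := by
    intro i
    apply pow_of_mem_evs E hw
    change _ ∈ evs E (mat g)
    rw [hevs]
    exact Multiset.mem_map.2 ⟨i, Finset.mem_univ_val _, rfl⟩
  have h2 : y ⟨0, by omega⟩ = y ⟨1, by omega⟩ := by
    apply Units.ext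
    have h3 := (h1 ⟨0, by omega⟩).trans (h1 ⟨1, by omega⟩).symm
    rwa [pow_one, pow_one] at h3
  have h3 := congrArg Fin.val (hinj h2)
  norm_num at h3

theorem hit_irr {p : ℕ} [hp : Fact p.Prime] [CharP F p] (hF : Fintype.card F = p ^ 2)
    (heng : EngPSU.{u} F p n) {r : ℕ} (hr : r.Prime) (hn : orderOf ((xv false p : ℤ) : ZMod r) = n) (hn3 : 3 ≤ n)
    (hJ : ∀ d ≤ n, Nat.gcd n (p + 1) ∣ d → ∃ J : Finset (Fin n), J.card = d ∧
      ((∑ j ∈ J, xv false p ^ (j : ℕ) : ℤ) : ZMod r) = 0) :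
    Hit.{u, 0} p (PSU n F p) := by
  have : CharP (AlgebraicClosure F) p := charP_of_injective_algebraMap (algebraMap F (AlgebraicClosure F)).injective p
  have hrp : r.Coprime p := coprime_p hp.out hr dvd_rfl hn (by omega)
  obtain ⟨b, ob⟩ := exists_unit (E := AlgebraicClosure F) hrp hr.ne_zero hp.out
  obtain ⟨g, h1, h3, h4⟩ := exists_irr hF ob hr hn hn3
  refine hit_of (QuotientGroup.mk g : PSU n F p) (by rw [h4]; exact hrp) ?_ ?_
  · intro W _ _ _ hW φ
    refine heng g (Nat.Coprime.coprime_dvd_left (orderOf_dvd_of_pow_eq_one h3) hrp) _ h1 ?_ W hW φ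
    intro d hd hgd
    obtain ⟨J, hJ1, hJ2⟩ := hJ d hd hgd
    refine ⟨J, hJ1, ?_⟩
    rw [← Units.coe_prod]
    have h5 : ∏ j ∈ J, b ^ (xv false p ^ (j : ℕ)) = b ^ (∑ j ∈ J, xv false p ^ (j : ℕ)) := by
      classical
      induction J using Finset.induction_on generalizing d with
      | empty => simp
      | insert a J ha ih =>
        clear hJ1 hJ2
        have : ∀ J : Finset (Fin n), ∏ j ∈ J, b ^ (xv false p ^ (j : ℕ)) = b ^ (∑ j ∈ J, xv false p ^ (j : ℕ)) := by
          intro J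
          induction J using Finset.induction_on with
          | empty => simp
          | insert a J ha ih => rw [Finset.prod_insert ha, Finset.sum_insert ha, ih, _root_.zpow_add]
        exact this _
    rw [h5]
    have h6 : b ^ (∑ j ∈ J, xv false p ^ (j : ℕ)) = b ^ (0 : ℤ) := by
      rw [zpow_eq_iff ob, hJ2]
      push_cast
      rfl
    rw [h6, zpow_zero, Units.val_one]
  · rw [h4, mul_comm]
    exact (lin_psu (E := AlgebraicClosure F) hF hn3).not_adj_char (by simpa using hF) hp.out dvd_rfl hn3 hr hn (Or.inl rfl)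

theorem hit_six_three [CharP F 3] (hF : Fintype.card F = 3 ^ 2) (heng : EngPSU.{u} F 3 6) : Hit.{u, 0} 3 (PSU 6 F 3) := by
  have : Fact (Nat.Prime 3) := ⟨Nat.prime_three⟩
  have hx : ((xv false 3 : ℤ) : ZMod 13) = -3 := by
    unfold xv
    rw [if_neg (by decide)]
    push_cast
    rfl
  have ho : orderOf ((xv false 3 : ℤ) : ZMod 13) = 6 := by
    rw [hx, orderOf_eq_iff (by norm_num)]
    refine ⟨by decide, ?_⟩
    intro m hm hm0
    interval_cases m <;> decide
  refine hit_irr hF heng (r := 13) (by norm_num) ho (by norm_num) ?_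
  intro d hd hgd
  have hd' : d = 0 ∨ d = 2 ∨ d = 4 ∨ d = 6 := by
    have h2 : 2 ∣ d := hgd
    omega
  rcases hd' with rfl | rfl | rfl | rfl
  · exact ⟨∅, rfl, by simp⟩
  · refine ⟨{0, 3}, rfl, ?_⟩
    push_cast
    rw [hx]
    decide
  · refine ⟨{0, 3, 1, 4}, rfl, ?_⟩
    push_cast
    rw [hx]
    decide
  · refine ⟨Finset.univ, rfl, ?_⟩
    push_cast
    rw [hx]
    decide

theorem hit_six_two [CharP F 2] (hF : Fintype.card F = 2 ^ 2) (heng : EngPSU.{u} F 2 6) : Hit.{u, 0} 2 (PSU 6 F 2) := by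
  have : Fact (Nat.Prime 2) := ⟨Nat.prime_two⟩
  have hx : ((xv false 2 : ℤ) : ZMod 7) = -2 := by
    unfold xv
    rw [if_neg (by decide)]
    push_cast
    rfl
  have ho : orderOf ((xv false 2 : ℤ) : ZMod 7) = 6 := by
    rw [hx, orderOf_eq_iff (by norm_num)]
    refine ⟨by decide, ?_⟩
    intro m hm hm0
    interval_cases m <;> decide
  refine hit_irr hF heng (r := 7) (by norm_num) ho (by norm_num) ?_
  intro d hd hgd
  have hd' : d = 0 ∨ d = 3 ∨ d = 6 := by
    have h2 : 3 ∣ d := hgd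
    omega
  rcases hd' with rfl | rfl | rfl
  · exact ⟨∅, rfl, by simp⟩
  · refine ⟨{0, 2, 4}, rfl, ?_⟩
    push_cast
    rw [hx]
    decide
  · refine ⟨Finset.univ, rfl, ?_⟩
    push_cast
    rw [hx]
    decide

/-- **The rows `PSU_n(q)`, `n ≥ 6` even, in the own characteristic**, from the engines. -/
theorem psu_own_even (p : ℕ) [hp : Fact p.Prime] [CharP F p] (hF : Fintype.card F = q ^ 2) (hn : Even n)
    (hn6 : 6 ≤ n) (h82 : ¬ (n = 8 ∧ q = 2)) (heng : EngSU.{u} F p n q) (heng' : n = 6 → q = p → EngPSU.{u} F p 6) :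
    Hit.{u, 0} p (PSU n F q) := by
  have hpq : p ∣ q := by
    obtain ⟨k, hpp, hk⟩ := FiniteField.card F p
    have h1 : p ∣ q ^ 2 := by
      rw [← hF, hk]
      exact dvd_pow_self p k.pos.ne'
    exact hp.out.dvd_of_dvd_pow h1
  have hq : 2 ≤ q := two_le_of_card (t := 1) hF
  by_cases h8 : 8 ≤ n
  · exact hit_ge_eight hF hpq heng hn h8 h82
  have h6 : n = 6 := by
    obtain ⟨k, hk⟩ := hn
    omega
  subst h6
  by_cases h4 : 4 ≤ q
  · exact hit_six hF hpq heng h4
  have hq23 : q = 2 ∨ q = 3 := by omega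
  rcases hq23 with rfl | rfl
  · have : p = 2 := (Nat.prime_dvd_prime_iff_eq hp.out Nat.prime_two).1 hpq
    subst this
    exact hit_six_two hF (heng' rfl rfl)
  · have : p = 3 := (Nat.prime_dvd_prime_iff_eq hp.out Nat.prime_three).1 hpq
    subst this
    exact hit_six_three hF (heng' rfl rfl)

end

end Cfsg.Agent.H44.Cov
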