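import Cfsg.Agent.H403.LinTwo

/-!
# Element orders of `PSL_n(q)`, `PSU_n(q)` divisible by the characteristic (helper44, for S3442)

`n = k + l + 1`, `r` and `s` primes such that `± q` has order `k` modulo `r` and `l` modulo `s`: there is no element of
order `p * r * s` (`Lin.not_prs`).
-/

set_option autoImplicit false
set_option linter.unusedSectionVars false

namespace Cfsg.Agent.H44.Cov

open Polynomial Function Cfsg.Agent.H403 Cfsg.Agent.H403.NumTop

section

variable {F : Type*} [Field F] [Fintype F] {E : Type*} [Field E] [IsAlgClosed E] [Algebra F E]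
variable {e : Bool} {n q : ℕ} {L : Type*} [Group L]

theorem charP_E (hF : Fintype.card F = q ^ (cond e 0 1 + 1)) {p : ℕ} (hp : p.Prime) (hpq : p ∣ q) : CharP E p := by
  obtain ⟨p', hp'⟩ := CharP.exists F
  obtain ⟨k, hpp, hk⟩ := FiniteField.card F p'
  have h2 : p ∣ p' := by
    have h3 : p ∣ Fintype.card F := by
      rw [hF]
      exact hpq.trans (dvd_pow_self q (Nat.succ_ne_zero _))
    rw [hk] at h3
    exact hp.dvd_of_dvd_pow h3
  have h3 := (Nat.prime_dvd_prime_iff_eq hp hpp).1 h2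
  rw [← h3] at hp'
  exact charP_of_injective_algebraMap (algebraMap F E).injective p

/-- distinct eigenvalues: no room for unipotent elements -/
theorem contra_nodup {g : L} {M : Matrix (Fin n) (Fin n) F} (hF : Fintype.card F = q ^ (cond e 0 1 + 1)) (hn : 1 ≤ n)
    (hM : Cl (xv e q) (evs E M)) (hMk : ∀ k : ℕ, g ^ k = 1 ↔ ∃ c : F, M ^ k = c • (1 : Matrix (Fin n) (Fin n) F))
    {p N : ℕ} (hp : p.Prime) (hpq : p ∣ q) (hN : 0 < N) (hnd : (evs E M).Nodup) (hg : orderOf g = p * N) : False := by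
  have hchar : CharP E p := charP_E hF hp hpq
  have := Fact.mk hp
  obtain ⟨ζ, hζ⟩ := (hMk (N * p)).1 (by rw [mul_comm, ← hg]; exact pow_orderOf_eq_one g)
  have hinj : ∀ a b : E, a ^ p = b ^ p → a = b := fun a b hab => frobenius_inj E p hab
  have hsq : ∀ z ∈ evs E M, (z ^ N) ^ p = algebraMap F E ζ := fun z hz => by
    rw [← pow_mul]; exact pow_of_mem_evs E hζ hz
  obtain ⟨y, hy⟩ := exists_mem_evs (E := E) hn M
  have hall : ∀ z ∈ evs E M, z ^ N = y ^ N := fun z hz => hinj _ _ ((hsq z hz).trans (hsq y hy).symm)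
  have hfix : (y ^ N) ^ xv e q = y ^ N := by
    have h1 := hall _ (hM.mem hy)
    rwa [zpow_pow_comm] at h1
  obtain ⟨c, hc⟩ := mem_range_of_fix hF (pow_ne_zero _ (hM.ne_zero hy)) hfix
  have h2 := pow_eq_smul_of_nodup E hN hnd (c := c) fun z hz => by rw [hall z hz, hc]
  have h3 := (hMk N).2 ⟨_, h2⟩
  have h4 := orderOf_dvd_of_pow_eq_one h3
  rw [hg] at h4
  have h5 := Nat.le_of_dvd hN h4
  have := hp.two_le
  nlinarith

/-- the value of `y ^ A` along an orbit -/
theorem pow_mem_orb {x : ℤ} {y w : E} {A : ℕ} (hw : w ∈ orb x y) : ∃ j, w ^ A = (y ^ A) ^ (x ^ j) := by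
  obtain ⟨j, rfl⟩ := mem_orb hw
  exact ⟨j, zpow_pow_comm _ _ _⟩

theorem orb_eq_one {x : ℤ} {y w : E} {A : ℕ} (hw : w ∈ orb x y) (h : y ^ A = 1) : w ^ A = 1 := by
  obtain ⟨j, hj⟩ := pow_mem_orb (A := A) hw
  rw [hj, h, one_zpow]

theorem orb_ne_one {x : ℤ} {R : Multiset E} (hR : Cl x R) {y w : E} {A : ℕ} (hw : w ∈ orb x y)
    (h : y ^ A ≠ 1) : w ^ A ≠ 1 := by
  intro h1
  apply h
  obtain ⟨j, rfl⟩ := mem_orb hw
  rw [zpow_pow_comm, ← iterate_zpow] at h1
  exact hR.inj.iterate j (h1.trans (by rw [iterate_zpow, one_zpow]))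

/-- two orbits and a fixed point -/
theorem nodup_of_two {x : ℤ} {R : Multiset E} (h : Cl x R) {y z : E} (hy : y ∈ R) (hz : z ∈ R)
    (hd : ∀ w ∈ orb x y, w ∉ orb x z) (h1 : 2 ≤ per x y) (h2 : 2 ≤ per x z)
    (hc : Multiset.card R = per x y + per x z + 1) : R.Nodup := by
  classical
  have hdis : Disjoint (orb x y) (orb x z) := Multiset.disjoint_left.2 fun {w} => hd w
  have hnd : (orb x y + orb x z).Nodup := (Multiset.nodup_add).2 ⟨orb_nodup _ _, orb_nodup _ _, hdis⟩
  have hle : orb x y + orb x z ≤ R := by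
    rw [Multiset.le_iff_subset hnd]
    intro w hw
    rcases Multiset.mem_add.1 hw with h3 | h3
    · exact Multiset.mem_of_le (h.orb_le hy) h3
    · exact Multiset.mem_of_le (h.orb_le hz) h3
  obtain ⟨T, hT⟩ := Multiset.le_iff_exists_add.1 hle
  have h3 : Multiset.card T = 1 := by
    have := congrArg Multiset.card hT
    rw [Multiset.card_add, Multiset.card_add, card_orb, card_orb] at this
    omega
  obtain ⟨μ, rfl⟩ := Multiset.card_eq_one.1 h3
  have h4 : R = μ ::ₘ (orb x y + orb x z) := by rw [hT, add_comm, Multiset.singleton_add]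
  have h5 : μ ^ x = μ := by
    have h6 := h.map
    rw [h4, Multiset.map_cons, Multiset.map_add, orb_map h, orb_map h] at h6
    exact (Multiset.cons_inj_left _).1 h6
  rw [h4, Multiset.nodup_cons]
  refine ⟨fun h6 => ?_, hnd⟩
  rcases Multiset.mem_add.1 h6 with h7 | h7
  · exact notMem_orb h h1 h5 h7
  · exact notMem_orb h h2 h5 h7

/-- **No elements of order `p * r * s`.** -/
theorem not_prs (hL : Lin E L e n q F) (hF : Fintype.card F = q ^ (cond e 0 1 + 1)) {p : ℕ} (hp : p.Prime)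
    (hpq : p ∣ q) {r s k l : ℕ} (hr : r.Prime) (hs : s.Prime) (hk : orderOf ((xv e q : ℤ) : ZMod r) = k)
    (hl : orderOf ((xv e q : ℤ) : ZMod s) = l) (hk2 : 2 ≤ k) (hl2 : 2 ≤ l) (hn : n = k + l + 1)
    (hlcm : n ≤ Nat.lcm k l) : ¬ ∃ g : L, orderOf g = p * (r * s) := by
  classical
  rintro ⟨g, hg⟩
  have hq : 2 ≤ q := two_le_of_card hF
  obtain ⟨M, hdet, hM, hMk⟩ := hL g
  obtain ⟨-, -, -, -, hA, y, hy, hyA⟩ := nontriv (s := s * p) hF (by omega) hM hMk hr (mul_pos hs.pos hp.pos)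
    (not_dvd_AA_one (by omega) hk hk2) (not_dvd_q hr hk (by omega)) (by rw [hg]; ring)
  obtain ⟨-, -, -, -, hB, z, hz, hzB⟩ := nontriv (s := r * p) hF (by omega) hM hMk hs (mul_pos hr.pos hp.pos)
    (not_dvd_AA_one (by omega) hl hl2) (not_dvd_q hs hl (by omega)) (by rw [hg]; ring)
  refine contra_nodup hF (by omega) hM hMk hp hpq (mul_pos hr.pos hs.pos) ?_ hg
  have hcard : Multiset.card (evs E M) = n := by rw [card_evs, Fintype.card_fin]
  have hboth : ∀ w ∈ evs E M, w ^ (s * p * AA e 1 q) ≠ 1 → w ^ (r * p * AA e 1 q) ≠ 1 → (evs E M).Nodup := by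
    intro w hw h1 h2
    have h3 := dvd_per hr hk (hA w hw) h1
    have h4 := dvd_per hs hl (hB w hw) h2
    have h5 := Nat.le_of_dvd (hM.per_pos hw) (Nat.lcm_dvd h3 h4)
    have h6 : per (xv e q) w ≤ n := by
      have h4 := Multiset.card_le_card (hM.orb_le hw)
      rwa [card_orb, hcard] at h4
    rw [eq_orb hM hw (by rw [hcard]; omega)]
    exact orb_nodup _ _
  by_cases hyB : y ^ (r * p * AA e 1 q) = 1
  swap
  · exact hboth y hy hyA hyB
  by_cases hzA : z ^ (s * p * AA e 1 q) = 1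
  swap
  · exact hboth z hz hzA hzB
  have h3 := dvd_per hr hk (hA y hy) hyA
  have h4 := dvd_per hs hl (hB z hz) hzB
  have hd : ∀ w ∈ orb (xv e q) y, w ∉ orb (xv e q) z := fun w h5 h6 => orb_ne_one hM h5 hyA (orb_eq_one h6 hzA)
  have hle : per (xv e q) y + per (xv e q) z ≤ n := by
    have hdis : Disjoint (orb (xv e q) y) (orb (xv e q) z) := Multiset.disjoint_left.2 fun {w} => hd w
    have hnd : (orb (xv e q) y + orb (xv e q) z).Nodup := (Multiset.nodup_add).2 ⟨orb_nodup _ _, orb_nodup _ _, hdis⟩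
    have hle : orb (xv e q) y + orb (xv e q) z ≤ evs E M := by
      rw [Multiset.le_iff_subset hnd]
      intro w hw
      rcases Multiset.mem_add.1 hw with h3 | h3
      · exact Multiset.mem_of_le (hM.orb_le hy) h3
      · exact Multiset.mem_of_le (hM.orb_le hz) h3
    have := Multiset.card_le_card hle
    rwa [Multiset.card_add, card_orb, card_orb, hcard] at this
  have hpy := hM.per_pos hy
  have hpz := hM.per_pos hz
  obtain ⟨a, ha⟩ := h3
  obtain ⟨b, hb⟩ := h4
  have ha0 : 1 ≤ a := by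
    rcases Nat.eq_zero_or_pos a with h | h
    · rw [h, mul_zero] at ha; omega
    · exact h
  have hb0 : 1 ≤ b := by
    rcases Nat.eq_zero_or_pos b with h | h
    · rw [h, mul_zero] at hb; omega
    · exact h
  have ha1 : a = 1 := by
    by_contra hcon
    have h5 : k * 2 ≤ k * a := Nat.mul_le_mul_left k (by omega)
    have h6 : l * 1 ≤ l * b := Nat.mul_le_mul_left l hb0
    omega
  have hb1 : b = 1 := by
    by_contra hcon
    have h5 : l * 2 ≤ l * b := Nat.mul_le_mul_left l (by omega)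
    have h6 : k * 1 ≤ k * a := Nat.mul_le_mul_left k ha0
    omega
  rw [ha1, mul_one] at ha
  rw [hb1, mul_one] at hb
  exact nodup_of_two hM hy hz hd (by omega) (by omega) (by omega)

/-- **`n = 6`, `q ≡ 1` modulo 4: no elements of order `4 * p * s`.** -/
theorem not_p4s (hL : Lin E L false 6 q F) (hF : Fintype.card F = q ^ 2) {p : ℕ} (hp : p.Prime)
    (hpq : p ∣ q) (hq4 : q % 4 = 1) {s : ℕ} (hs : s.Prime) (hl : orderOf ((xv false q : ℤ) : ZMod s) = 3) :
    ¬ ∃ g : L, orderOf g = p * (4 * s) := by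
  classical
  rintro ⟨g, hg⟩
  have hF' : Fintype.card F = q ^ (cond false 0 1 + 1) := by simpa using hF
  have hq : 2 ≤ q := two_le_of_card (t := 1) hF
  obtain ⟨M, hdet, hM, hMk⟩ := hL g
  obtain ⟨-, -, -, -, hB, y0, hy0, hyB⟩ := nontriv (s := 4 * p) hF' (by omega) hM hMk hs (by have := hp.pos; omega)
    (not_dvd_AA_one (by omega) hl (by omega)) (not_dvd_q hs hl (by omega)) (by rw [hg]; ring)
  by_cases hnd : (evs E M).Nodup
  · exact contra_nodup hF' (by omega) hM hMk hp hpq (by have := hs.pos; omega) hnd hg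
  have hcard : Multiset.card (evs E M) = 6 := by rw [card_evs, Fintype.card_fin]
  set x : ℤ := xv false q with hx
  have hle : ∀ w ∈ evs E M, per x w ≤ 6 := by
    intro w hw
    have h4 := Multiset.card_le_card (hM.orb_le hw)
    rwa [card_orb, hcard] at h4
  have h3y : per x y0 = 3 := by
    obtain ⟨a, ha⟩ := dvd_per hs hl (hB y0 hy0) hyB
    have h1 := hle y0 hy0
    have h2 := hM.per_pos hy0
    have h5 : per x y0 ≠ 6 := by
      intro h6
      apply hnd
      rw [eq_orb hM hy0 (by rw [hcard, h6])]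
      exact orb_nodup _ _
    omega
  -- the other eigenvalues
  obtain ⟨T, hT⟩ := Multiset.le_iff_exists_add.1 (hM.orb_le hy0)
  have hTc : Multiset.card T = 3 := by
    have := congrArg Multiset.card hT
    rw [Multiset.card_add, card_orb, hcard] at this
    omega
  have hTR : ∀ w ∈ T, w ∈ evs E M := fun w hw => by rw [hT]; exact Multiset.mem_add.2 (Or.inr hw)
  have hTcl : Cl x T := by
    refine ⟨hM.inj, ?_, fun h => hM.zero (hTR _ h)⟩
    have h1 := hM.map
    rw [hT, Multiset.map_add, orb_map hM] at h1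
    exact add_left_cancel h1
  have hper : ∀ w ∈ T, per x w ∣ 3 := by
    intro w hw
    have h1 : per x w ≤ 3 := by
      have h4 := Multiset.card_le_card (hTcl.orb_le hw)
      rwa [card_orb, hTc] at h4
    have h2 := hTcl.per_pos hw
    have h5 : per x w ≠ 2 := by
      intro h2
      apply hnd
      obtain ⟨μ, hμ, hμx⟩ := eq_cons_orb hTcl hw (by rw [hTc, h2])
      have htriv : ∀ v ∈ evs E M, ¬ 3 ∣ per x v → v ^ (4 * p * AA false 1 q) = 1 := by
        intro v hv hv3
        by_contra hne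
        exact hv3 (dvd_per hs hl (hB v hv) hne)
      have hw1 : w ^ (4 * p * AA false 1 q) = 1 := htriv w (hTR w hw) (by rw [h2]; norm_num)
      have hμ1 : μ ^ (4 * p * AA false 1 q) = 1 := by
        apply htriv μ (hTR μ (by rw [hμ]; exact Multiset.mem_cons_self _ _))
        have h6 : per x μ ∣ 1 := by
          apply IsPeriodicPt.minimalPeriod_dvd
          exact hμx
        rw [Nat.dvd_one.1 h6]
        norm_num
      have hdis : Disjoint (orb x y0) T := by
        refine Multiset.disjoint_left.2 fun {v} hv hvT => ?_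
        have h6 := orb_ne_one hM hv hyB
        rw [hμ, Multiset.mem_cons] at hvT
        rcases hvT with rfl | hvT
        · exact h6 hμ1
        · exact h6 (orb_eq_one hvT hw1)
      have hTnd : T.Nodup := by
        rw [hμ, Multiset.nodup_cons]
        exact ⟨notMem_orb hTcl (by omega) hμx, orb_nodup _ _⟩
      rw [hT]
      exact (Multiset.nodup_add).2 ⟨orb_nodup _ _, hTnd, hdis⟩
    interval_cases hpp : per x w
    · norm_num
    · exact absurd rfl h5
    · norm_num
  -- all the eigenvalues are roots of unity of order dividing `q ^ 3 + 1`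
  have h3 : ∀ w ∈ evs E M, w ^ (x ^ 3) = w := by
    intro w hw
    rw [hT, Multiset.mem_add] at hw
    rcases hw with h | h
    · obtain ⟨j, rfl⟩ := mem_orb h
      have h1 := pow_per x y0
      rw [h3y] at h1
      rw [zpow_zpow_comm, h1]
    · obtain ⟨c, hc⟩ := hper w h
      have h1 := pow_per x w
      have h2 : IsPeriodicPt (fun y : E => y ^ x) 3 w := by
        rw [hc]
        exact (isPeriodicPt_minimalPeriod _ _).mul_const c
      have h4 : (fun y : E => y ^ x)^[3] w = w := h2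
      rwa [iterate_zpow] at h4
  have hq3 : ∀ w ∈ evs E M, w ^ (q ^ 3 + 1) = 1 := by
    intro w hw
    have h1 := h3 w hw
    have h2 : x ^ 3 = -((q ^ 3 : ℕ) : ℤ) := by
      rw [hx]
      simp [xv]
      ring
    rw [h2, zpow_neg, zpow_natCast] at h1
    have h0 := hM.ne_zero hw
    rw [pow_succ]
    nth_rewrite 2 [← h1]
    exact mul_inv_cancel₀ (pow_ne_zero _ h0)
  obtain ⟨K, hK⟩ : ∃ K, q ^ 3 + 1 = 2 * (2 * K + 1) := by
    have h1 : (q ^ 3 + 1) % 4 = 2 := by
      rw [Nat.add_mod, Nat.pow_mod, hq4]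
    exact ⟨(q ^ 3 + 1) / 4, by omega⟩
  obtain ⟨ζ, hζ⟩ := (hMk (p * (4 * s))).1 (by rw [← hg]; exact pow_orderOf_eq_one g)
  obtain ⟨hζ0, -⟩ := scal (by omega) (by omega) hM hζ
  have hall : ∀ w ∈ evs E M, w ^ (2 * (s * p)) = algebraMap F E (ζ ^ (K + 1)) := by
    intro w hw
    have h1 := pow_of_mem_evs E hζ hw
    have h2 := hq3 w hw
    rw [map_pow, ← h1, ← pow_mul]
    have e : p * (4 * s) * (K + 1) = 2 * (s * p) + (q ^ 3 + 1) * (s * p) := by
      rw [hK]; ring
    rw [e, pow_add, pow_mul _ (q ^ 3 + 1), h2, one_pow, mul_one]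
  have h2F : ((2 : ℕ) : F) ≠ 0 := by
    refine natCast_ne_zero hF' Nat.prime_two ?_
    intro h
    omega
  have : Nonempty (Fin 6) := ⟨0⟩
  have h5 := pow_eq_smul_of_coprime E (k := 2 * (s * p)) (m := 2) (c := ζ ^ (K + 1)) (pow_ne_zero _ hζ0) h2F
    (by rw [← hζ]; congr 1; ring) hall
  have h6 := orderOf_dvd_of_pow_eq_one ((hMk _).2 ⟨_, h5⟩)
  rw [hg] at h6
  have h7 := Nat.le_of_dvd (by have := Nat.mul_pos hs.pos hp.pos; omega) h6
  have h8 := Nat.mul_pos hs.pos hp.pos
  nlinarith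

end

end Cfsg.Agent.H44.Cov
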